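import Groth.Agent.Lib.ThickPush25.Descend

/-!
# Cocones under spans
-/

universe u w

set_option backward.isDefEq.respectTransparency.types false

open CategoryTheory CategoryTheory.Limits

namespace Groth.Agent.ThickPush25

variable {C : Type w} [Category.{u} C]

/-- A cocone under a span is a colimit as soon as its legs form a pushout. -/
theorem nonempty_isColimit_of_isPushout {D : WalkingSpan ⥤ C} (c : Cocone D)
    (h : IsPushout (D.map WalkingSpan.Hom.fst) (D.map WalkingSpan.Hom.snd) (c.ι.app WalkingSpan.left)
      (c.ι.app WalkingSpan.right)) : Nonempty (IsColimit c) := by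
  refine ⟨{ desc := fun s => h.desc (s.ι.app WalkingSpan.left) (s.ι.app WalkingSpan.right)
              ((s.w WalkingSpan.Hom.fst).trans (s.w WalkingSpan.Hom.snd).symm)
            fac := fun s j => ?_
            uniq := fun s m hm => ?_ }⟩
  · rcases j with (_ | _ | _)
    · rw [← c.w WalkingSpan.Hom.fst, Category.assoc, h.inl_desc]
      exact s.w WalkingSpan.Hom.fst
    · exact h.inl_desc _ _ _
    · exact h.inr_desc _ _ _
  · exact h.hom_ext ((hm WalkingSpan.left).trans (h.inl_desc _ _ _).symm)
      ((hm WalkingSpan.right).trans (h.inr_desc _ _ _).symm)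

/-- A cocone under a span from two legs. -/
def mkCocone {D : WalkingSpan ⥤ C} {P : C} (l : D.obj WalkingSpan.left ⟶ P) (r : D.obj WalkingSpan.right ⟶ P)
    (w : D.map WalkingSpan.Hom.fst ≫ l = D.map WalkingSpan.Hom.snd ≫ r) : Cocone D where
  pt := P
  ι :=
    { app := fun j => match j with
        | none => D.map WalkingSpan.Hom.fst ≫ l
        | some WalkingPair.left => l
        | some WalkingPair.right => r
      naturality := fun i j g => by
        rcases g with (_ | j)
        · rw [WidePushoutShape.hom_id]; simp
        · rcases j with (_ | _)
          · exact (Category.comp_id _).symm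
          · exact w.symm.trans (Category.comp_id _).symm }

end Groth.Agent.ThickPush25
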