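import Groth.Agent.Lib.Pinch4.BaseChange
import Groth.Agent.Lib.TopInv15.Bc
import Groth.Agent.S0076

/-!
# Etale schemes over pushouts along thickenings
-/

universe u

set_option backward.isDefEq.respectTransparency.types false

open CategoryTheory CategoryTheory.Limits AlgebraicGeometry

noncomputable section

namespace Groth.Agent.ThickPush25

/-- A morphism of schemes etale over a base is determined and given on a universal homeomorphism. -/
theorem exists_iso_of_restrict {S' S₀ : Scheme.{u}} (t : S₀ ⟶ S') [IsIntegralHom t] [UniversallyInjective t]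
    [Surjective t] {U Q Z : Scheme.{u}} (p : U ⟶ S') [Etale p] (q : Q ⟶ S') [Etale q] {l : Z ⟶ U} {m : Z ⟶ Q}
    {z : Z ⟶ S₀} (hl : IsPullback l z p t) (hm : IsPullback m z q t) :
    ∃ φ : U ≅ Q, φ.hom ≫ q = p ∧ l ≫ φ.hom = m := by
  let U₀ : Over S' := Over.mk p
  let Q₀ : Over S' := Over.mk q
  have : Etale U₀.hom := ‹Etale p›
  have : Etale Q₀.hom := ‹Etale q›
  let e : (Over.pullback t).obj U₀ ≅ (Over.pullback t).obj Q₀ :=
    Over.isoMk (hl.isoPullback.symm ≪≫ hm.isoPullback) (by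
      change (hl.isoPullback.inv ≫ hm.isoPullback.hom) ≫ pullback.snd q t = pullback.snd p t
      rw [Category.assoc, hm.isoPullback_hom_snd, hl.isoPullback_inv_snd])
  obtain ⟨φ, hφ⟩ := (Groth.Agent.S0076.result t Q₀ U₀).2 e.hom
  obtain ⟨ψ, hψ⟩ := (Groth.Agent.S0076.result t U₀ Q₀).2 e.inv
  replace hφ : (Over.pullback t).map φ = e.hom := hφ
  replace hψ : (Over.pullback t).map ψ = e.inv := hψ
  have h₁ : φ ≫ ψ = 𝟙 U₀ := (Groth.Agent.S0076.result t U₀ U₀).1 (by
    change (Over.pullback t).map (φ ≫ ψ) = (Over.pullback t).map (𝟙 U₀)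
    rw [Functor.map_comp, hφ, hψ, e.hom_inv_id, CategoryTheory.Functor.map_id])
  have h₂ : ψ ≫ φ = 𝟙 Q₀ := (Groth.Agent.S0076.result t Q₀ Q₀).1 (by
    change (Over.pullback t).map (ψ ≫ φ) = (Over.pullback t).map (𝟙 Q₀)
    rw [Functor.map_comp, hφ, hψ, e.inv_hom_id, CategoryTheory.Functor.map_id])
  refine ⟨⟨φ.left, ψ.left, congrArg CommaMorphism.left h₁, congrArg CommaMorphism.left h₂⟩, Over.w φ, ?_⟩
  have hs : ((Over.pullback t).map φ).left ≫ pullback.fst q t = pullback.fst p t ≫ φ.left :=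
    pullback.lift_fst _ _ _
  rw [hφ] at hs
  change (hl.isoPullback.inv ≫ hm.isoPullback.hom) ≫ pullback.fst q t = pullback.fst p t ≫ φ.left at hs
  rw [Category.assoc, hm.isoPullback_hom_fst] at hs
  have := hl.isoPullback.hom ≫= hs
  rw [Iso.hom_inv_id_assoc, ← Category.assoc, hl.isoPullback_hom_fst] at this
  exact this.symm

/-- Etale schemes on the pieces glue to an etale scheme on the pushout along a thickening. -/
theorem exists_glue {X X' Y Y' : Scheme.{u}} {t : X ⟶ X'} [IsClosedImmersion t] [Surjective t] {f : X ⟶ Y}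
    [IsAffineHom f] {a' : X' ⟶ Y'} {b : Y ⟶ Y'} (H : Pinch4.IsPinch t f a' b) {U₀ U V : Scheme.{u}}
    {u₀ : U₀ ⟶ X} (u : U ⟶ X') [Etale u] (v : V ⟶ Y) [Etale v] {l : U₀ ⟶ U} {r : U₀ ⟶ V}
    (hl : IsPullback l u₀ u t) (hr : IsPullback r u₀ v f) :
    ∃ (G : Scheme.{u}) (g : G ⟶ Y') (cU : U ⟶ G) (cV : V ⟶ G), Etale g ∧ IsPullback cU u g a' ∧
      IsPullback cV v g b ∧ l ≫ cU = r ≫ cV ∧ IsPullback (r ≫ cV) u₀ g (t ≫ a') := by
  have := H.isClosedImmersion_b
  have : Surjective b := ⟨H.surjective_b t.surjective⟩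
  obtain ⟨G, g, cV, hg, sq⟩ := TopInv15.exists_etale_scheme b v
  have := hg
  have sqV : IsPullback cV v g b := sq.flip
  have big : IsPullback (r ≫ cV) u₀ g (t ≫ a') := by
    rw [H.w]
    exact hr.paste_horiz sqV
  let q := pullback.fst a' g
  have : Etale q := MorphismProperty.pullback_fst _ _ hg
  let m : U₀ ⟶ pullback a' g := pullback.lift (u₀ ≫ t) (r ≫ cV) (by rw [Category.assoc, ← big.w])
  have hm : IsPullback m u₀ q t := by
    refine IsPullback.of_right ?_ (pullback.lift_fst _ _ _) (IsPullback.of_hasPullback a' g).flip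
    rw [pullback.lift_snd]
    exact big
  obtain ⟨φ, hφ₁, hφ₂⟩ := exists_iso_of_restrict t u q hl hm
  refine ⟨G, g, φ.hom ≫ pullback.snd a' g, cV, hg, ?_, sqV, ?_, big⟩
  · exact IsPullback.of_iso (IsPullback.of_hasPullback a' g).flip φ.symm (Iso.refl _) (Iso.refl _) (Iso.refl _)
      (by simp) (by simp [← hφ₁, q]) (by simp) (by simp)
  · rw [← Category.assoc, hφ₂, pullback.lift_snd]

end Groth.Agent.ThickPush25
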